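import Mathlib.CategoryTheory.Triangulated.Subcategory
import Mathlib.CategoryTheory.Triangulated.Yoneda
import Mathlib.CategoryTheory.Limits.Preserves.Shapes.Products
import Mathlib.CategoryTheory.Preadditive.Yoneda.Basic
import Mathlib.Algebra.Category.Grp.Colimits
import Mathlib.Algebra.Category.Grp.EpiMono
import Mathlib.CategoryTheory.Limits.Constructions.Filtered
import Mathlib.GroupTheory.QuotientGroup.Basic

/-! Objects whose maps into sums have finite support. -/

universe t v u
open CategoryTheory CategoryTheory.Limits CategoryTheory.Pretriangulated Opposite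
open scoped Classical

set_option backward.isDefEq.respectTransparency false
set_option linter.unusedSectionVars false
set_option linter.style.haveILetI false
namespace Groth.L07.Beil

variable {D : Type u} [Category.{v} D] [Preadditive D]

/-- A projection of a sum. -/
noncomputable def pr {J : Type t} (X : J → D) [HasCoproduct X] (j : J) : (∐ X) ⟶ X j :=
  Sigma.desc fun i => if h : i = j then eqToHom (by rw [h]) else 0

theorem ι_pr {J : Type t} (X : J → D) [HasCoproduct X] (i j : J) :
    Sigma.ι X i ≫ pr X j = if h : i = j then eqToHom (by rw [h]) else 0 := Sigma.ι_desc _ _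

/-- The projection to the summands in `s`. -/
noncomputable def part {J : Type t} (X : J → D) [HasCoproduct X] (s : Finset J) : (∐ X) ⟶ ∐ X :=
  ∑ i ∈ s, pr X i ≫ Sigma.ι X i

theorem ι_part {J : Type t} (X : J → D) [HasCoproduct X] (s : Finset J) (i : J) :
    Sigma.ι X i ≫ part X s = if i ∈ s then Sigma.ι X i else 0 := by
  rw [part, Preadditive.comp_sum]
  simp only [← Category.assoc, ι_pr]
  split_ifs with h
  · rw [Finset.sum_eq_single i (fun j _ hj => by rw [dif_neg hj.symm, zero_comp]) (fun h' => absurd h h')]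
    simp
  · exact Finset.sum_eq_zero fun j hj => by rw [dif_neg (fun e : i = j => h (e.symm ▸ hj)), zero_comp]

theorem part_comp {J : Type t} (X : J → D) [HasCoproduct X] (s u : Finset J) :
    part X s ≫ part X u = part X (s ∩ u) := by
  refine Sigma.hom_ext _ _ fun i => ?_
  rw [← Category.assoc, ι_part, ι_part]
  by_cases h : i ∈ s
  · rw [if_pos h, ι_part]
    by_cases h' : i ∈ u
    · rw [if_pos h', if_pos (Finset.mem_inter.2 ⟨h, h'⟩)]
    · rw [if_neg h', if_neg fun h'' => h' (Finset.mem_inter.1 h'').2]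
  · rw [if_neg h, zero_comp, if_neg fun h'' => h (Finset.mem_inter.1 h'').1]

variable [HasCoproducts.{t} D]

/-- Maps into sums have finite support. -/
def FinSupp : ObjectProperty D := fun Y =>
  ∀ (J : Type t) (X : J → D) (f : Y ⟶ ∐ X), ∃ s : Finset J, f ≫ part X s = f

theorem finSupp_mono {J : Type t} (X : J → D) {Y : D} (f : Y ⟶ ∐ X) {s u : Finset J} (h : f ≫ part X s = f)
    (hsu : s ⊆ u) : f ≫ part X u = f := by
  rw [← h, Category.assoc, part_comp, Finset.inter_eq_left.2 hsu]

theorem finSupp_of_retract {Y Z : D} (i : Y ⟶ Z) (r : Z ⟶ Y) (hir : i ≫ r = 𝟙 Y)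
    (h : FinSupp.{t} Z) : FinSupp.{t} Y := fun J X f => by
  obtain ⟨s, hs⟩ := h J X (r ≫ f)
  refine ⟨s, ?_⟩
  have := congr(i ≫ $hs)
  simpa [reassoc_of% hir] using this

theorem finSupp_of_isZero {Y : D} (h : IsZero Y) : FinSupp.{t} Y := fun _ _ _ => ⟨∅, h.eq_of_src _ _⟩

theorem finSupp_iff_preserves (Y : D) :
    FinSupp.{t} Y ↔ ∀ J : Type t, PreservesColimitsOfShape (Discrete J) (preadditiveCoyoneda.obj (op Y)) := by
  constructor
  · intro h J
    suffices ∀ X : J → D, PreservesColimit (Discrete.functor X) (preadditiveCoyoneda.obj (op Y)) from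
      preservesColimitsOfShape_of_discrete _
    intro X
    refine preservesColimit_of_preserves_colimit_cocone (coproductIsCoproduct X)
      ((isColimitMapCoconeCofanMkEquiv (preadditiveCoyoneda.obj (op Y)) _ _).2 ?_)
    choose sup hsup using h J X
    let G (A : AddCommGrpCat) (g : ∀ i, AddCommGrpCat.of (Y ⟶ X i) ⟶ A) (f : Y ⟶ ∐ X) : A :=
      ∑ i ∈ sup f, g i (f ≫ pr X i)
    have hG : ∀ (A : AddCommGrpCat) (g : ∀ i, AddCommGrpCat.of (Y ⟶ X i) ⟶ A) (f : Y ⟶ ∐ X) (s : Finset J),
        sup f ⊆ s → G A g f = ∑ i ∈ s, g i (f ≫ pr X i) := fun A g f s hs => by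
      refine Finset.sum_subset hs fun i _ hi => ?_
      have : f ≫ pr X i = 0 := by
        rw [← hsup f, Category.assoc, part, Preadditive.sum_comp, Finset.sum_eq_zero, comp_zero]
        intro j hj
        rw [Category.assoc, ι_pr, dif_neg (fun e : j = i => hi (e ▸ hj)), comp_zero]
      rw [this]
      exact map_zero (g i).hom
    refine Cofan.IsColimit.mk _ (fun c => AddCommGrpCat.ofHom (AddMonoidHom.mk' (G c.pt c.inj) ?_))
      (fun c i => ?_) (fun c m hm => ?_)
    · intro a b
      let s := sup a ∪ sup b ∪ sup (a + b)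
      rw [hG _ _ a s (fun x hx => Finset.mem_union_left _ (Finset.mem_union_left _ hx)),
        hG _ _ b s (fun x hx => Finset.mem_union_left _ (Finset.mem_union_right _ hx)),
        hG _ _ (a + b) s (fun x hx => Finset.mem_union_right _ hx), ← Finset.sum_add_distrib]
      refine Finset.sum_congr rfl fun j _ => ?_
      rw [Preadditive.add_comp]
      exact map_add (c.inj j).hom _ _
    · refine AddCommGrpCat.hom_ext (AddMonoidHom.ext fun (y : Y ⟶ X i) => ?_)
      change G c.pt c.inj (y ≫ Sigma.ι X i) = c.inj i y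
      rw [hG _ _ _ (insert i (sup (y ≫ Sigma.ι X i))) (Finset.subset_insert _ _),
        Finset.sum_eq_single i (fun j _ hj => ?_) (fun h' => absurd (Finset.mem_insert_self _ _) h')]
      · rw [Category.assoc, ι_pr, dif_pos rfl, eqToHom_refl, Category.comp_id]
        rfl
      · rw [Category.assoc, ι_pr, dif_neg hj.symm, comp_zero]
        exact map_zero (c.inj j).hom
    · refine AddCommGrpCat.hom_ext (AddMonoidHom.ext fun (f : Y ⟶ ∐ X) => ?_)
      change m f = G c.pt c.inj f
      conv_lhs => rw [← hsup f]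
      rw [part, Preadditive.comp_sum]
      refine (map_sum m.hom (fun i => f ≫ pr X i ≫ Sigma.ι X i) (sup f)).trans (Finset.sum_congr rfl fun i _ => ?_)
      rw [← Category.assoc]
      exact congr($(hm i) (f ≫ pr X i))
  · intro h J X f
    haveI := h J
    let F := preadditiveCoyoneda.obj (op Y)
    let S : AddSubgroup (F.obj (∐ X)) :=
      { carrier := {g | ∃ s : Finset J, (show Y ⟶ ∐ X from g) ≫ part X s = g}
        zero_mem' := ⟨∅, zero_comp⟩
        add_mem' := fun {a b} ⟨s, hs⟩ ⟨u, hu⟩ => ⟨s ∪ u, by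
          change ((show Y ⟶ ∐ X from a) + (show Y ⟶ ∐ X from b)) ≫ _ = _
          rw [Preadditive.add_comp, finSupp_mono X _ hs Finset.subset_union_left,
            finSupp_mono X _ hu Finset.subset_union_right]⟩
        neg_mem' := fun {a} ⟨s, hs⟩ => ⟨s, by
          change (-(show Y ⟶ ∐ X from a)) ≫ _ = _
          rw [Preadditive.neg_comp, hs]⟩ }
    let hc := (isColimitMapCoconeCofanMkEquiv F _ _)
      (isColimitOfPreserves F (coproductIsCoproduct X))
    have h0 : AddCommGrpCat.ofHom (QuotientAddGroup.mk' S) = 0 := Cofan.IsColimit.hom_ext hc _ _ fun i => by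
      refine AddCommGrpCat.hom_ext (AddMonoidHom.ext fun (y : Y ⟶ X i) => ?_)
      refine (QuotientAddGroup.eq_zero_iff _).2 ⟨{i}, ?_⟩
      change (y ≫ Sigma.ι X i) ≫ part X {i} = y ≫ Sigma.ι X i
      rw [Category.assoc, ι_part, if_pos (Finset.mem_singleton_self i)]
    exact (QuotientAddGroup.eq_zero_iff (show F.obj (∐ X) from f)).1 congr($h0 f)

variable [HasShift D ℤ] [∀ n : ℤ, (shiftFunctor D n).Additive]

theorem finSupp_shift {Y : D} (h : FinSupp.{t} Y) (a : ℤ) : FinSupp.{t} (Y⟦a⟧) := fun J X f => by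
  let F := shiftFunctor D (-a)
  let e : Y ⟶ (Y⟦a⟧)⟦-a⟧ := ((shiftFunctorCompIsoId D a (-a) (by omega)).app Y).inv
  haveI : PreservesColimitsOfShape (Discrete J) F :=
    inferInstanceAs (PreservesColimitsOfShape (Discrete J) (shiftEquiv D a).inverse)
  obtain ⟨s, hs⟩ := h J (fun j => F.obj (X j)) (e ≫ F.map f ≫ inv (sigmaComparison F X))
  refine ⟨s, F.map_injective ((cancel_epi e).1 ?_)⟩
  have hpart : F.map (part X s) = inv (sigmaComparison F X) ≫ part (fun j => F.obj (X j)) s ≫ sigmaComparison F X := by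
    rw [IsIso.eq_inv_comp]
    refine Sigma.hom_ext _ _ fun i => ?_
    rw [ι_comp_sigmaComparison_assoc, ← Functor.map_comp, ι_part, ← Category.assoc, ι_part]
    split_ifs with hi
    · rw [ι_comp_sigmaComparison]
    · rw [Functor.map_zero, zero_comp]
  have := congr($hs ≫ sigmaComparison F X)
  simp only [Category.assoc, IsIso.inv_hom_id, Category.comp_id] at this
  rw [Functor.map_comp, hpart]
  exact this

variable [HasZeroObject D] [Pretriangulated D]

theorem finSupp_ext₂ (T : Triangle D) (hT : T ∈ distTriang D) (h₁ : FinSupp.{t} T.obj₁)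
    (h₃ : FinSupp.{t} T.obj₃) : FinSupp.{t} T.obj₂ := fun J X f => by
  obtain ⟨s, hs⟩ := h₁ J X (T.mor₁ ≫ f)
  obtain ⟨g, hg⟩ := Triangle.yoneda_exact₂ _ hT (f - f ≫ part X s) (by
    rw [Preadditive.comp_sub, ← Category.assoc, hs, sub_self])
  obtain ⟨u, hu⟩ := h₃ J X g
  refine ⟨s ∪ u, ?_⟩
  have h1 : (f - f ≫ part X s) ≫ part X (s ∪ u) = f - f ≫ part X s := by
    rw [hg, Category.assoc, finSupp_mono X g hu Finset.subset_union_right]
  rw [Preadditive.sub_comp, Category.assoc, part_comp, Finset.inter_eq_left.2 Finset.subset_union_left,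
    sub_left_inj] at h1
  exact h1

theorem finSupp_ext₁ (T : Triangle D) (hT : T ∈ distTriang D) (h₂ : FinSupp.{t} T.obj₂)
    (h₃ : FinSupp.{t} T.obj₃) : FinSupp.{t} T.obj₁ :=
  finSupp_ext₂ _ (inv_rot_of_distTriang _ hT) (finSupp_shift h₃ (-1)) h₂

end Groth.L07.Beil
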