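import Groth.Agent.L10.DerTrunc
import Mathlib.Algebra.Homology.DerivedCategory.SingleTriangle
import Mathlib.Algebra.Homology.DerivedCategory.KProjective
import Mathlib.Algebra.Homology.DerivedCategory.Linear
import Mathlib.Algebra.Category.ModuleCat.Projective
import Mathlib.Algebra.Category.ModuleCat.Algebra
import Mathlib.Algebra.Homology.ShortComplex.ModuleCat
import Mathlib.Algebra.Homology.ShortComplex.Linear

/-! Maps out of the free module in the derived category of modules over a ring, not assumed commutative. -/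

universe u

open CategoryTheory CategoryTheory.Limits CategoryTheory.Pretriangulated

attribute [local instance] HasDerivedCategory.standard

set_option backward.isDefEq.respectTransparency false
set_option linter.style.haveILetI false
set_option linter.unusedSectionVars false

namespace Groth.L07.Beil

variable {A : Type u} [Ring A]

/-- the embedding of modules in degree zero -/
noncomputable abbrev sg (A : Type u) [Ring A] : ModuleCat.{u} A ⥤ DerivedCategory (ModuleCat.{u} A) :=
  DerivedCategory.singleFunctor (ModuleCat.{u} A) 0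

section Eval

open DerivedCategory

local notation "tt" => DerivedCategory.TStructure.t

/-- `A[0]` has no maps to objects living in negative degrees -/
lemma hom_eq_zero_of_isLE (X : DerivedCategory (ModuleCat.{u} A)) [X.IsLE (-1)] (φ : (sg A).obj (ModuleCat.of A A) ⟶ X) : φ = 0 := by
  obtain ⟨L, _, ⟨e⟩⟩ := exists_iso_Q_obj_of_isLE X (-1)
  let K := (CochainComplex.singleFunctor (ModuleCat.{u} A) 0).obj (ModuleCat.of A A)
  haveI : Projective (ModuleCat.of A A) :=
    (IsProjective.iff_projective A).1 inferInstance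
  haveI : ∀ n, Projective (K.X n) := by
    intro n
    by_cases h : n = 0
    · subst h
      exact Projective.of_iso (HomologicalComplex.singleObjXSelf (ComplexShape.up ℤ) 0 _).symm inferInstance
    · exact (HomologicalComplex.isZero_single_obj_X (ComplexShape.up ℤ) 0 _ n h).projective
  haveI : K.IsKProjective := CochainComplex.isKProjective_of_projective K 0
  let eA : (sg A).obj (ModuleCat.of A A) ≅ Q.obj K :=
    ((SingleFunctors.evaluation _ _ 0).mapIso (singleFunctorsPostcompQIso (ModuleCat.{u} A))).app _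
  let ψ : Q.obj K ⟶ Q.obj L := eA.inv ≫ φ ≫ e.hom
  have hψ : ψ = 0 := by
    obtain ⟨χ, hχ⟩ := (CochainComplex.IsKProjective.Qh_map_bijective K
      ((HomotopyCategory.quotient _ _).obj L)).2
        ((quotientCompQhIso _).hom.app K ≫ ψ ≫ (quotientCompQhIso _).inv.app L)
    obtain ⟨c, rfl⟩ := (HomotopyCategory.quotient _ _).map_surjective χ
    have hc : c = 0 := by
      ext n : 1
      by_cases h : n = 0
      · subst h; exact (L.isZero_of_isStrictlyLE (-1) 0 (by lia)).eq_of_tgt _ _
      · exact (HomologicalComplex.isZero_single_obj_X (ComplexShape.up ℤ) 0 _ n h).eq_of_src _ _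
    rw [hc, Functor.map_zero, Functor.map_zero] at hχ
    calc ψ = (quotientCompQhIso _).inv.app K ≫
          ((quotientCompQhIso _).hom.app K ≫ ψ ≫ (quotientCompQhIso _).inv.app L) ≫
            (quotientCompQhIso _).hom.app L := by simp
      _ = 0 := by rw [← hχ]; simp
  calc φ = eA.hom ≫ ψ ≫ e.inv := by simp [ψ]
    _ = 0 := by rw [hψ]; simp

/-- the class of `1` in `H⁰(A[0])` -/
noncomputable def one : (DerivedCategory.homologyFunctor (ModuleCat.{u} A) 0).obj ((sg A).obj (ModuleCat.of A A)) :=
  ((singleFunctorCompHomologyFunctorIso (ModuleCat.{u} A) 0).app (ModuleCat.of A A)).inv (1 : A)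

/-- evaluation at `1` -/
noncomputable def evalOne (X : DerivedCategory (ModuleCat.{u} A)) :
    ((sg A).obj (ModuleCat.of A A) ⟶ X) →+ (DerivedCategory.homologyFunctor (ModuleCat.{u} A) 0).obj X where
  toFun φ := (DerivedCategory.homologyFunctor (ModuleCat.{u} A) 0).map φ one
  map_zero' := by rw [Functor.map_zero]; rfl
  map_add' φ ψ := by rw [Functor.map_add]; rfl

lemma homology_map_eq_zero_of_evalOne (X : DerivedCategory (ModuleCat.{u} A)) (φ : (sg A).obj (ModuleCat.of A A) ⟶ X)
    (h : evalOne X φ = 0) : (DerivedCategory.homologyFunctor (ModuleCat.{u} A) 0).map φ = 0 := by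
  let e := (singleFunctorCompHomologyFunctorIso (ModuleCat.{u} A) 0).app (ModuleCat.of A A)
  rw [← cancel_epi e.inv, comp_zero]
  refine ModuleCat.hom_ext (LinearMap.ext_ring ?_)
  exact h

theorem evalOne_bijective (X : DerivedCategory (ModuleCat.{u} A)) : Function.Bijective (evalOne X) := by
  constructor
  · rw [injective_iff_map_eq_zero]
    intro φ hφ
    have h := homology_map_eq_zero_of_evalOne X φ hφ
    have h' : φ ≫ ((tt).truncGEπ 0).app X = 0 :=
      Groth.L10.eq_zero_of_H_eq_zero (A := ModuleCat.{u} A) 0 _ (by rw [Functor.map_comp, h]; simp)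
    obtain ⟨g, rfl⟩ := Triangle.coyoneda_exact₂ _ ((tt).triangleLTGE_distinguished 0 X) φ h'
    haveI : DerivedCategory.IsLE (((tt).truncLT 0).obj X) (-1) :=
      inferInstanceAs ((tt).IsLE (((tt).truncLT 0).obj X) (0 - 1))
    rw [show g = 0 from hom_eq_zero_of_isLE (((tt).truncLT 0).obj X) g]
    simp
  · intro x
    let Y := ((tt).truncGE 0).obj X
    let R := ((tt).truncLT 1).obj Y
    haveI : DerivedCategory.IsLE R 0 := inferInstanceAs ((tt).IsLE (((tt).truncLT 1).obj Y) (1 - 1))
    haveI : DerivedCategory.IsGE R 0 := by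
      rw [DerivedCategory.isGE_iff]
      intro i hi
      have := Groth.L10.isIso_H_ι (A := ModuleCat.{u} A) 1 i (by lia) Y
      exact (DerivedCategory.isZero_of_isGE Y 0 i hi).of_iso
        (asIso ((DerivedCategory.homologyFunctor _ i).map (((tt).truncLTι 1).app Y)))
    haveI h1 := Groth.L10.isIso_H_ι (A := ModuleCat.{u} A) 1 0 (by lia) Y
    haveI h2 := Groth.L10.isIso_H_π (A := ModuleCat.{u} A) 0 0 le_rfl X
    obtain ⟨eR⟩ := Groth.L10.exists_iso_single_H (A := ModuleCat.{u} A) R 0
    let e := (singleFunctorCompHomologyFunctorIso (ModuleCat.{u} A) 0).app (ModuleCat.of A A)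
    let k : ModuleCat.of A A ⟶ (DerivedCategory.homologyFunctor (ModuleCat.{u} A) 0).obj Y :=
      ModuleCat.ofHom (LinearMap.toSpanSingleton A _
        ((DerivedCategory.homologyFunctor (ModuleCat.{u} A) 0).map (((tt).truncGEπ 0).app X) x))
    let k' : (DerivedCategory.homologyFunctor (ModuleCat.{u} A) 0).obj ((sg A).obj (ModuleCat.of A A)) ⟶
        (DerivedCategory.homologyFunctor (ModuleCat.{u} A) 0).obj R :=
      e.hom ≫ k ≫ inv ((DerivedCategory.homologyFunctor (ModuleCat.{u} A) 0).map (((tt).truncLTι 1).app Y))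
    let eR' := (singleFunctorCompHomologyFunctorIso (ModuleCat.{u} A) 0).app
      ((DerivedCategory.homologyFunctor (ModuleCat.{u} A) 0).obj R)
    let ψ : (sg A).obj (ModuleCat.of A A) ⟶ R := (sg A).map
      (e.inv ≫ k' ≫ (DerivedCategory.homologyFunctor (ModuleCat.{u} A) 0).map eR.hom ≫ eR'.hom) ≫ eR.inv
    have hψ : (DerivedCategory.homologyFunctor (ModuleCat.{u} A) 0).map ψ = k' := by
      have hn := NatIso.naturality_2 (singleFunctorCompHomologyFunctorIso (ModuleCat.{u} A) 0)
        (e.inv ≫ k' ≫ (DerivedCategory.homologyFunctor (ModuleCat.{u} A) 0).map eR.hom ≫ eR'.hom)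
      simp only [Functor.id_map, Functor.comp_map] at hn
      rw [show ψ = (sg A).map (e.inv ≫ k' ≫
        (DerivedCategory.homologyFunctor (ModuleCat.{u} A) 0).map eR.hom ≫ eR'.hom) ≫ eR.inv from rfl,
        Functor.map_comp, ← hn]
      simp [e, eR', ← Functor.map_comp]
    let φ' : (sg A).obj (ModuleCat.of A A) ⟶ Y := ψ ≫ ((tt).truncLTι 1).app Y
    haveI : DerivedCategory.IsLE (((tt).truncLT 0).obj X) (-1) :=
      inferInstanceAs ((tt).IsLE (((tt).truncLT 0).obj X) (0 - 1))
    haveI : DerivedCategory.IsLE ((((tt).truncLT 0).obj X)⟦(1 : ℤ)⟧) (-1) := by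
      have := (tt).isLE_shift (((tt).truncLT 0).obj X) (-1) 1 (-2) (by lia)
      exact (tt).isLE_of_le _ (-2) (-1) (by lia)
    obtain ⟨φ, hφ⟩ := Triangle.coyoneda_exact₃ _ ((tt).triangleLTGE_distinguished 0 X) φ'
      (hom_eq_zero_of_isLE ((((tt).truncLT 0).obj X)⟦(1 : ℤ)⟧) _)
    refine ⟨φ, (ConcreteCategory.bijective_of_isIso
      ((DerivedCategory.homologyFunctor (ModuleCat.{u} A) 0).map (((tt).truncGEπ 0).app X))).1 ?_⟩
    change ((DerivedCategory.homologyFunctor (ModuleCat.{u} A) 0).map φ ≫
      (DerivedCategory.homologyFunctor (ModuleCat.{u} A) 0).map (((tt).truncGEπ 0).app X)) one = _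
    rw [← Functor.map_comp]
    erw [← hφ]
    simp only [φ', Functor.map_comp, hψ, k', Category.assoc, IsIso.inv_hom_id, Category.comp_id]
    change k (e.hom (e.inv (1 : A))) = _
    rw [Iso.inv_hom_id_apply]
    simp [k]

/-- `Hom(A[0], W[i]) = Hⁱ(W)` -/
noncomputable def evalShiftEquiv (W : DerivedCategory (ModuleCat.{u} A)) (i : ℤ) :
    ((sg A).obj (ModuleCat.of A A) ⟶ W⟦i⟧) ≃+ (DerivedCategory.homologyFunctor (ModuleCat.{u} A) i).obj W :=
  (AddEquiv.ofBijective (evalOne (W⟦i⟧)) (evalOne_bijective (W⟦i⟧))).trans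
    (Groth.L10.hShiftIso (A := ModuleCat.{u} A) W i 0 i (by lia)).toLinearEquiv.toAddEquiv

end Eval

section Linear

open scoped ModuleCat.Algebra

variable {k : Type u} [Field k] [Algebra k A]

theorem homology_linear (i : ℤ) : (DerivedCategory.homologyFunctor (ModuleCat.{u} A) i).Linear k := by
  letI : Localization.Lifting DerivedCategory.Q (HomologicalComplex.quasiIso (ModuleCat.{u} A) (ComplexShape.up ℤ))
      (HomologicalComplex.homologyFunctor (ModuleCat.{u} A) (ComplexShape.up ℤ) i)
      (DerivedCategory.homologyFunctor (ModuleCat.{u} A) i) := ⟨DerivedCategory.homologyFunctorFactors _ i⟩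
  rw [← Localization.functor_linear_iff DerivedCategory.Q
    (HomologicalComplex.quasiIso (ModuleCat.{u} A) (ComplexShape.up ℤ)) k
    (HomologicalComplex.homologyFunctor (ModuleCat.{u} A) (ComplexShape.up ℤ) i)]
  refine ⟨fun {X Y} f r => ?_⟩
  exact ShortComplex.homologyMap_smul ((HomologicalComplex.shortComplexFunctor _ _ i).map f) r

end Linear

end Groth.L07.Beil
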