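import Groth.Agent.L07.Beil.CompactProp
import Groth.Agent.L07.Beil.ModEval
import Groth.Agent.L07.BvdB.Linear
import Groth.Agent.L10.DerivedModGen
import Groth.Agent.L10.KInjDerived
import Groth.Agent.L29.DCoh.Gen.Thick

/-! Compact objects of the derived category of a finite-dimensional algebra with triangular idempotents. -/

universe u

open CategoryTheory CategoryTheory.Limits CategoryTheory.Pretriangulated Opposite
open scoped ModuleCat.Algebra

attribute [local instance] HasDerivedCategory.standard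

set_option backward.isDefEq.respectTransparency false
set_option backward.defeqAttrib.useBackward true
set_option linter.style.haveILetI false
set_option linter.unusedSectionVars false

namespace Groth.L07.Beil

open Groth.L07.BvdB

variable {A : Type u} [Ring A]


theorem isGrothendieck : IsGrothendieckAbelian.{u} (ModuleCat.{u} A) := inferInstance

theorem hasCoproducts_DM (J : Type u) : HasCoproductsOfShape J (DerivedCategory (ModuleCat.{u} A)) :=
  Groth.L10.DerivedProd.hasCoproductsOfShape

theorem locallySmall_DM : LocallySmall.{u} (DerivedCategory (ModuleCat.{u} A)) :=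
  ⟨fun _ _ => small_of_injective (f := (Groth.L10.KInjDerived.equiv (A := ModuleCat.{u} A)).inverse.map)
    (Groth.L10.KInjDerived.equiv (A := ModuleCat.{u} A)).inverse.map_injective⟩

theorem isZero_of_homology {W : (DerivedCategory (ModuleCat.{u} A))} (h : ∀ i, Subsingleton ((DerivedCategory.homologyFunctor (ModuleCat.{u} A) i).obj W)) : IsZero W := by
  haveI : IsIso (0 : W ⟶ W) := by
    rw [DerivedCategory.isIso_iff]
    intro i
    haveI := h i
    exact ⟨0, (ModuleCat.isZero_of_subsingleton _).eq_of_src _ _, (ModuleCat.isZero_of_subsingleton _).eq_of_src _ _⟩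
  exact (IsZero.iff_id_eq_zero W).2 ((IsIso.inv_hom_id (0 : W ⟶ W)).symm.trans comp_zero)

theorem finSupp_R : haveI : HasCoproducts.{u} (DerivedCategory (ModuleCat.{u} A)) := hasCoproducts_DM; FinSupp.{u} ((sg A).obj (ModuleCat.of A A)) := by
  haveI : HasCoproducts.{u} (DerivedCategory (ModuleCat.{u} A)) := hasCoproducts_DM
  classical
  intro J X f
  let qK := HomotopyCategory.quotient (ModuleCat.{u} A) (ComplexShape.up ℤ)
  let K := fun i => (DerivedCategory.Qh.objPreimage (X i)).as
  let e : ∀ i, DerivedCategory.Qh.obj (qK.obj (K i)) ≅ X i := fun i => DerivedCategory.Qh.objObjPreimageIso (X i)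
  let g₀ := Groth.L10.DerivedModGen.gen A 0
  let eR : DerivedCategory.Qh.obj (qK.obj g₀) ≅ ((sg A).obj (ModuleCat.of A A)) :=
    (DerivedCategory.quotientCompQhIso _).app g₀ ≪≫
      ((DerivedCategory.singleFunctorIsoCompQ (ModuleCat.{u} A) 0).app (ModuleCat.of A A)).symm
  obtain ⟨ψ, hψ⟩ := (Groth.L10.DerivedProd.hom_from_coproduct_bijective K (∐ X)).surjective
    fun i => (e i).hom ≫ Sigma.ι X i
  have hψ' : ∀ i, DerivedCategory.Qh.map (qK.map (Sigma.ι K i)) ≫ ψ = (e i).hom ≫ Sigma.ι X i := congrFun hψ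
  let φ : ∐ X ⟶ DerivedCategory.Qh.obj (qK.obj (∐ K)) :=
    Sigma.desc fun i => (e i).inv ≫ DerivedCategory.Qh.map (qK.map (Sigma.ι K i))
  have hφψ : φ ≫ ψ = 𝟙 _ := Sigma.hom_ext _ _ fun i => by simp [φ, hψ']
  obtain ⟨g, hg⟩ := (CochainComplex.IsKProjective.Qh_map_bijective g₀ (qK.obj (∐ K))).surjective (eR.hom ≫ f ≫ φ)
  obtain ⟨z, rfl⟩ := qK.map_surjective g
  obtain ⟨s, hs⟩ := Groth.L10.DerivedModGen.exists_finset_eq K 0 z
  refine ⟨s, (cancel_epi eR.hom).1 ?_⟩
  have hf : eR.hom ≫ f = DerivedCategory.Qh.map (qK.map z) ≫ ψ := by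
    rw [hg, Category.assoc, Category.assoc, hφψ, Category.comp_id]
  rw [← Category.assoc, hf, Category.assoc]
  have hz : qK.map z = ∑ i ∈ s, qK.map (z ≫ Sigma.desc (Pi.single i (𝟙 (K i)))) ≫ qK.map (Sigma.ι K i) := by
    refine (congrArg qK.map hs).trans ?_
    simp only [Functor.map_sum, Functor.map_comp, Category.assoc]
  rw [hz, Functor.map_sum, Preadditive.sum_comp, Preadditive.sum_comp]
  refine Finset.sum_congr rfl fun i hi => ?_
  rw [Functor.map_comp DerivedCategory.Qh, Category.assoc, Category.assoc, ← Category.assoc _ ψ, hψ',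
    Category.assoc, ι_part, if_pos hi]

variable {k : Type u} [Field k] [Algebra k A]

/-- Finite total homology. -/
def FinH (k : Type u) [Field k] [Algebra k A] (W : (DerivedCategory (ModuleCat.{u} A))) : Prop :=
  (∀ i : ℤ, Module.Finite k ((DerivedCategory.homologyFunctor (ModuleCat.{u} A) i).obj W)) ∧ Set.Finite {i : ℤ | Nontrivial ((DerivedCategory.homologyFunctor (ModuleCat.{u} A) i).obj W)}

/-- Evaluation at one, linearly. -/
noncomputable def evalLin (W : (DerivedCategory (ModuleCat.{u} A))) (m : ℤ) : (((sg A).obj (ModuleCat.of A A)) ⟶ W⟦m⟧) ≃ₗ[k] (DerivedCategory.homologyFunctor (ModuleCat.{u} A) m).obj W :=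
  { evalShiftEquiv W m with
    map_smul' := fun r φ => by
      haveI := homology_linear (A := A) (k := k) 0
      change ((Groth.L10.hShiftIso W m 0 m (by lia)).hom) ((DerivedCategory.homologyFunctor (ModuleCat.{u} A) 0).map (r • φ) one) =
        r • ((Groth.L10.hShiftIso W m 0 m (by lia)).hom) ((DerivedCategory.homologyFunctor (ModuleCat.{u} A) 0).map φ one)
      rw [Functor.map_smul]
      exact LinearMap.map_smul_of_tower (Groth.L10.hShiftIso W m 0 m (by lia)).hom.hom r ((DerivedCategory.homologyFunctor (ModuleCat.{u} A) 0).map φ one) }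

theorem fin_iff (W : (DerivedCategory (ModuleCat.{u} A))) : Fin' k ((sg A).obj (ModuleCat.of A A)) W ↔ FinH k W := by
  have hset : {m : ℤ | Nontrivial (((sg A).obj (ModuleCat.of A A)) ⟶ W⟦m⟧)} = {m : ℤ | Nontrivial ((DerivedCategory.homologyFunctor (ModuleCat.{u} A) m).obj W)} :=
    Set.ext fun m => (evalLin (k := k) W m).toEquiv.nontrivial_congr
  constructor
  · rintro ⟨h1, h2⟩
    exact ⟨fun i => haveI := h1 i; Module.Finite.equiv (evalLin (k := k) W i), hset ▸ h2⟩
  · rintro ⟨h1, h2⟩
    exact ⟨fun i => haveI := h1 i; Module.Finite.equiv (evalLin (k := k) W i).symm, hset.symm ▸ h2⟩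

theorem hom_single_eq_zero (M : ModuleCat.{u} A) (m : ℤ) (hm : m ≠ 0) (φ : ((sg A).obj (ModuleCat.of A A)) ⟶ ((sg A).obj M)⟦m⟧) : φ = 0 := by
  have : Subsingleton ((DerivedCategory.homologyFunctor (ModuleCat.{u} A) m).obj ((sg A).obj M)) := ModuleCat.subsingleton_of_isZero (by
    rcases lt_or_gt_of_ne hm with h | h
    · exact DerivedCategory.isZero_of_isGE _ 0 m h
    · exact DerivedCategory.isZero_of_isLE _ 0 m h)
  exact (evalShiftEquiv ((sg A).obj M) m).injective (Subsingleton.elim _ _)

theorem finite_of [Module.Finite k A] :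
    @Module.Finite k (ModuleCat.of A A : ModuleCat.{u} A) _ _
      (ModuleCat.moduleOfAlgebraModule (k := k) (ModuleCat.of A A)) :=
  have h : (ModuleCat.moduleOfAlgebraModule (k := k) (ModuleCat.of A A : ModuleCat.{u} A) : Module k A) =
      (Algebra.toModule : Module k A) := Module.ext' _ _ fun r x => (Algebra.smul_def r x).symm
  h ▸ (inferInstance : @Module.Finite k A _ _ Algebra.toModule)

theorem fin_R_single (M : ModuleCat.{u} A) [Module.Finite k M] : Fin' k ((sg A).obj (ModuleCat.of A A)) ((sg A).obj M) := by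
  refine (fin_iff _).2 ⟨fun i => ?_, (Set.finite_singleton (0 : ℤ)).subset fun i hi => ?_⟩
  · rcases eq_or_ne i 0 with rfl | hne
    · haveI : Module.Finite k ((𝟭 (ModuleCat.{u} A)).obj M) := ‹Module.Finite k M›
      exact Module.Finite.equiv
        (((DerivedCategory.singleFunctorCompHomologyFunctorIso (ModuleCat.{u} A) 0).app M).symm.toLinearEquiv.restrictScalars k)
    · have : Subsingleton ((DerivedCategory.homologyFunctor (ModuleCat.{u} A) i).obj ((sg A).obj M)) := ModuleCat.subsingleton_of_isZero (by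
        rcases lt_or_gt_of_ne hne with h | h
        · exact DerivedCategory.isZero_of_isGE _ 0 i h
        · exact DerivedCategory.isZero_of_isLE _ 0 i h)
      infer_instance
  · by_contra hne
    have : Subsingleton ((DerivedCategory.homologyFunctor (ModuleCat.{u} A) i).obj ((sg A).obj M)) := ModuleCat.subsingleton_of_isZero (by
      rcases lt_or_gt_of_ne (show i ≠ 0 from hne) with h | h
      · exact DerivedCategory.isZero_of_isGE _ 0 i h
      · exact DerivedCategory.isZero_of_isLE _ 0 i h)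
    exact (not_nontrivial_iff_subsingleton.2 this) hi

theorem fin_retract {X Y W : (DerivedCategory (ModuleCat.{u} A))} (i : X ⟶ Y) (r : Y ⟶ X) (h : i ≫ r = 𝟙 X) (hY : Fin' k Y W) : Fin' k X W := by
  refine ⟨fun m => ?_, hY.2.subset fun m hm => ?_⟩
  · haveI := hY.1 m
    exact Module.Finite.of_injective (Linear.leftComp k (W⟦m⟧) r) fun a b hab => by
      have := congr(i ≫ $hab)
      simpa [reassoc_of% h] using this
  · obtain ⟨φ, hφ⟩ := BvdB.nontrivial_iff.1 hm
    refine BvdB.nontrivial_iff.2 ⟨r ≫ φ, fun h0 => hφ ?_⟩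
    have := congr(i ≫ $h0)
    simpa [reassoc_of% h] using this

theorem fin_retract_right {X Y W : (DerivedCategory (ModuleCat.{u} A))} (i : W ⟶ Y) (r : Y ⟶ W) (h : i ≫ r = 𝟙 W) (hY : Fin' k X Y) : Fin' k X W := by
  have hi : ∀ m : ℤ, i⟦m⟧' ≫ r⟦m⟧' = 𝟙 _ := fun m => by rw [← Functor.map_comp, h, CategoryTheory.Functor.map_id]
  refine ⟨fun m => ?_, hY.2.subset fun m hm => ?_⟩
  · haveI := hY.1 m
    exact Module.Finite.of_injective (post (k := k) X i m) fun a b hab => by
      have := congr($hab ≫ r⟦m⟧')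
      simpa [post, hi m] using this
  · obtain ⟨φ, hφ⟩ := BvdB.nontrivial_iff.1 hm
    refine BvdB.nontrivial_iff.2 ⟨φ ≫ i⟦m⟧', fun h0 => hφ ?_⟩
    have := congr($h0 ≫ r⟦m⟧')
    simpa [hi m] using this

theorem finH_of_finSupp [Module.Finite k A] (K : (DerivedCategory (ModuleCat.{u} A)))
    (hK : haveI : HasCoproducts.{u} (DerivedCategory (ModuleCat.{u} A)) := hasCoproducts_DM; FinSupp.{u} K) : FinH k K := by
  haveI : HasCoproducts.{u} (DerivedCategory (ModuleCat.{u} A)) := hasCoproducts_DM
  haveI := locallySmall_DM (A := A)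
  haveI : HasColimitsOfShape (Discrete ℕ) (DerivedCategory (ModuleCat.{u} A)) :=
    hasColimitsOfShape_of_equivalence (Discrete.equivalence (Equiv.ulift.{u} : ULift.{u} ℕ ≃ ℕ))
  haveI : ∀ (Y : (DerivedCategory (ModuleCat.{u} A))) (n : ℤ), Small.{u} (((sg A).obj (ModuleCat.of A A))⟦n⟧ ⟶ Y) := fun Y n => inferInstance
  have hR : FinSupp.{u} ((sg A).obj (ModuleCat.of A A)) := finSupp_R
  haveI := finite_of (A := A) (k := k)
  have built : ∀ {Y : (DerivedCategory (ModuleCat.{u} A))}, Groth.L29.Thick.Built ((sg A).obj (ModuleCat.of A A)) Y → FinSupp.{u} Y ∧ Fin' k ((sg A).obj (ModuleCat.of A A)) Y := by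
    intro Y hY
    induction hY with
    | gen n => exact ⟨finSupp_shift hR n, ((@fin_R_single _ _ k _ _ (ModuleCat.of A A) (finite_of (A := A) (k := k)))).shift n⟩
    | zero h =>
      refine ⟨finSupp_of_isZero h, ?_⟩
      have hz : ∀ m : ℤ, Subsingleton (((sg A).obj (ModuleCat.of A A)) ⟶ (_ : (DerivedCategory (ModuleCat.{u} A)))⟦m⟧) := fun m =>
        ⟨fun a b => ((shiftFunctor (DerivedCategory (ModuleCat.{u} A)) m).map_isZero h).eq_of_tgt a b⟩
      exact ⟨fun m => haveI := hz m; inferInstance,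
        Set.finite_empty.subset fun m hm => (not_nontrivial_iff_subsingleton.2 (hz m)) hm⟩
    | ext T hT _ _ h₁ h₃ => exact ⟨finSupp_ext₂ T hT h₁.1 h₃.1, Fin'.middle hT h₁.2 h₃.2⟩
    | iso e _ h => exact ⟨finSupp_of_retract e.inv e.hom e.inv_hom_id h.1, h.2.of_iso e⟩
  obtain ⟨Y, hY, ⟨r⟩⟩ := Groth.L29.Thick.exists_retract_built (G := ((sg A).obj (ModuleCat.of A A))) (fun Y => FinSupp.{u} Y)
    (fun T hT h₂ h₃ => finSupp_ext₁ T hT h₂ h₃) (fun Y hY => (built hY).1) (fun Y a h => finSupp_shift h a)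
    ⊤ (fun Y hY J X _ _ f => by
      obtain ⟨s, hs⟩ := hY J X f
      refine ⟨s, fun i => f ≫ pr X i, hs.symm.trans ?_⟩
      rw [part, Preadditive.comp_sum]
      exact Finset.sum_congr rfl fun i _ => (Category.assoc _ _ _).symm)
    (fun _ => trivial) (fun _ _ => trivial) (fun _ _ _ _ => trivial) (fun _ _ => trivial)
    (fun L _ hL => isZero_of_homology fun i => by
      refine ⟨fun a b => (evalShiftEquiv L i).symm.injective ?_⟩
      have hz : ∀ φ : ((sg A).obj (ModuleCat.of A A)) ⟶ L⟦i⟧, φ = 0 := fun φ => by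
        have := hL (-i) (φ⟦-i⟧' ≫ ((shiftFunctorCompIsoId (DerivedCategory (ModuleCat.{u} A)) i (-i) (by omega)).app L).hom)
        rw [Preadditive.IsIso.comp_right_eq_zero] at this
        exact (shiftFunctor (DerivedCategory (ModuleCat.{u} A)) (-i)).map_injective (this.trans (Functor.map_zero _ _ _).symm)
      rw [hz ((evalShiftEquiv L i).symm a), hz ((evalShiftEquiv L i).symm b)])
    hK trivial
  exact (fin_iff K).1 (fin_retract_right r.i r.r r.retract (built hY).2)

section Idem

variable {n : ℕ} (e : Fin (n + 1) → A)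

/-- The projective of an idempotent. -/
abbrev P (i : Fin (n + 1)) : ModuleCat.{u} A :=
  ModuleCat.of A (LinearMap.range (LinearMap.toSpanSingleton A A (e i)))

/-- inclusion -/
def inc (i : Fin (n + 1)) : P e i ⟶ ModuleCat.of A A :=
  ModuleCat.ofHom (LinearMap.range (LinearMap.toSpanSingleton A A (e i))).subtype

/-- projection -/
def proj (i : Fin (n + 1)) : ModuleCat.of A A ⟶ P e i :=
  ModuleCat.ofHom (LinearMap.toSpanSingleton A A (e i)).rangeRestrict

variable (he : ∀ i, e i * e i = e i)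

include he in
theorem mul_e {i : Fin (n + 1)} (x : P e i) : (x.1 : A) * e i = x.1 := by
  obtain ⟨_, y, rfl⟩ := x
  change y * e i * e i = y * e i
  rw [mul_assoc, he]

include he in
theorem inc_proj (i : Fin (n + 1)) : inc e i ≫ proj e i = 𝟙 (P e i) := by
  refine ModuleCat.hom_ext (LinearMap.ext fun x => Subtype.ext ?_)
  exact mul_e e he x

include he in
theorem finSupp_P (i : Fin (n + 1)) :
    haveI : HasCoproducts.{u} (DerivedCategory (ModuleCat.{u} A)) := hasCoproducts_DM; FinSupp.{u} ((sg A).obj (P e i)) :=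
  haveI : HasCoproducts.{u} (DerivedCategory (ModuleCat.{u} A)) := hasCoproducts_DM
  finSupp_of_retract ((sg A).map (inc e i)) ((sg A).map (proj e i))
    (by rw [← Functor.map_comp, inc_proj e he i, CategoryTheory.Functor.map_id]) finSupp_R

variable (hsum : ∑ i, e i = 1) (hlow : ∀ b a : Fin (n + 1), a < b → ∀ x : A, e b * x * e a = 0)
  (hdiag : ∀ (a : Fin (n + 1)) (x : A), ∃ r : k, e a * x * e a = r • e a)

include he hsum hlow hdiag in
theorem finSupp_of_finH [Module.Finite k A] (K : (DerivedCategory (ModuleCat.{u} A))) (hK : FinH k K) :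
    haveI : HasCoproducts.{u} (DerivedCategory (ModuleCat.{u} A)) := hasCoproducts_DM; FinSupp.{u} K := by
  haveI : HasCoproducts.{u} (DerivedCategory (ModuleCat.{u} A)) := hasCoproducts_DM
  let idx : ℕ → Fin (n + 1) := fun c => ⟨n - c, by omega⟩
  let E : ℕ → (DerivedCategory (ModuleCat.{u} A)) := fun c => (sg A).obj (P e (idx c))
  have hret : ∀ c, (sg A).map (inc e (idx c)) ≫ (sg A).map (proj e (idx c)) = 𝟙 (E c) := fun c => by
    rw [← Functor.map_comp, inc_proj e he, CategoryTheory.Functor.map_id]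
  have hne : ∀ (b : ℕ) (M : ModuleCat.{u} A) (m : ℤ), m ≠ 0 → ∀ φ : E b ⟶ ((sg A).obj M)⟦m⟧, φ = 0 :=
    fun b M m hm φ => by
      rw [← Category.id_comp φ, ← hret b, Category.assoc,
        hom_single_eq_zero M m hm ((sg A).map (proj e (idx b)) ≫ φ), comp_zero]
  have hmod : ∀ (b a : Fin (n + 1)) (f : P e b ⟶ P e a) (x : P e b),
      (f x).1 = x.1 * (e b * (f (proj e b (1 : A))).1 * e a) := by
    intro b a f x
    have hx : x = x.1 • (proj e b (1 : A)) := Subtype.ext (by
      change x.1 = x.1 * ((1 : A) * e b)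
      rw [one_mul, mul_e e he x])
    conv_lhs => rw [hx, map_smul]
    rw [mul_assoc (e b), mul_e e he, ← mul_assoc, mul_e e he x]
    rfl
  refine devissage (k := k) E n ⊤ (fun Y => FinSupp.{u} Y) ?_ (fun a _ m hm φ => hne a _ m hm φ) ?_ ?_
    (fun _ _ _ => trivial) (fun _ _ _ _ => trivial) ?_ (fun Y hY => finSupp_of_isZero hY)
    (fun a _ m => finSupp_shift (finSupp_P e he (idx a)) m) (fun T hT h₁ h₃ => finSupp_ext₂ T hT h₁ h₃) K trivial
    fun c _ => fin_retract _ _ (hret c) ((fin_iff K).2 hK)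
  · intro b a hb ha m φ
    rcases eq_or_ne m 0 with rfl | hm
    · let z := (shiftFunctorZero (DerivedCategory (ModuleCat.{u} A)) ℤ).app (E a)
      obtain ⟨f, hf⟩ := (sg A).map_surjective (φ ≫ z.hom)
      have hf0 : f = 0 := ModuleCat.hom_ext (LinearMap.ext fun x => Subtype.ext (by
        refine (hmod _ _ f x).trans ?_
        rw [hlow (idx b) (idx a) (Fin.mk_lt_mk.2 (by omega)), mul_zero]
        rfl))
      rw [hf0, Functor.map_zero] at hf
      rw [← cancel_mono z.hom, zero_comp]
      exact hf.symm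
    · exact hne b _ m hm φ
  · intro a ha φ
    obtain ⟨f, rfl⟩ := (sg A).map_surjective φ
    obtain ⟨r, hr⟩ := hdiag (idx a) (f (proj e (idx a) (1 : A))).1
    refine ⟨r, ?_⟩
    rw [← (sg A).map_id, ← Functor.map_smul]
    congr 1
    refine ModuleCat.hom_ext (LinearMap.ext fun x => Subtype.ext ?_)
    refine (hmod _ _ f x).trans ?_
    rw [hr, mul_smul_comm, mul_e e he x]
    exact (Algebra.smul_def r x.1)
  · intro c _ a _
    haveI := finite_of (A := A) (k := k)
    let M : ModuleCat.{u} A := P e (idx a)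
    haveI hM : @Module.Finite k M _ _ (ModuleCat.moduleOfAlgebraModule M) := by
      haveI := finite_of (A := A) (k := k)
      letI i₁ : Module k M := ModuleCat.moduleOfAlgebraModule M
      letI i₂ : Module k (ModuleCat.of A A : ModuleCat.{u} A) := ModuleCat.moduleOfAlgebraModule _
      haveI := ModuleCat.isScalarTower_of_algebra_moduleCat (k := k) M
      haveI := ModuleCat.isScalarTower_of_algebra_moduleCat (k := k) (ModuleCat.of A A : ModuleCat.{u} A)
      exact Module.Finite.of_surjective ((proj e (idx a)).hom.restrictScalars k)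
        (LinearMap.surjective_rangeRestrict _)
    exact fin_retract _ _ (hret c) (fin_R_single M)
  · intro L _ hL
    refine isZero_of_homology fun i => ⟨fun x y => (evalShiftEquiv L i).symm.injective ?_⟩
    have hid : (𝟙 (ModuleCat.of A A)) = ∑ a : Fin (n + 1), proj e a ≫ inc e a := by
      refine ModuleCat.hom_ext (LinearMap.ext_ring ?_)
      simp only [ModuleCat.hom_sum, LinearMap.sum_apply]
      change (1 : A) = ∑ a, (1 : A) * e a
      simp only [one_mul, hsum]
    have hz : ∀ φ : ((sg A).obj (ModuleCat.of A A)) ⟶ L⟦i⟧, φ = 0 := fun φ => by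
      rw [← Category.id_comp φ, ← (sg A).map_id, hid, Functor.map_sum, Preadditive.sum_comp]
      refine Finset.sum_eq_zero fun a _ => ?_
      obtain ⟨c, hc, rfl⟩ : ∃ c, c ≤ n ∧ idx c = a := ⟨n - a, by omega, Fin.ext (by simp [idx]; omega)⟩
      rw [Functor.map_comp, Category.assoc, hL c hc i ((sg A).map (inc e (idx c)) ≫ φ), comp_zero]
    rw [hz ((evalShiftEquiv L i).symm x), hz ((evalShiftEquiv L i).symm y)]

end Idem

end Groth.L07.Beil
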