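import Groth.Agent.L07.Beil.Idem
import Groth.Prelude.Def_W4stkfunctorsequivp2Beil
import Mathlib.RingTheory.MvPolynomial.Basic
import Mathlib.Algebra.Algebra.RestrictScalars

/-! The Beilinson algebra has triangular idempotents. -/

universe u

open CategoryTheory CategoryTheory.Limits MvPolynomial Opposite
open scoped ModuleCat.Algebra

attribute [local instance] HasDerivedCategory.standard

set_option backward.isDefEq.respectTransparency false
set_option linter.style.haveILetI false
set_option linter.unusedSectionVars false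

namespace Groth.L07.Beil

variable (k : Type u) [Field k] (n : ℕ)

local notation "B" => DEquiv.beilinsonAlg k n

/-- The diagonal idempotents. -/
noncomputable def idem (i : Fin (n + 1)) : DEquiv.beilinsonAlg k n :=
  ⟨Matrix.single i i 1, fun a b => by
    refine ⟨fun h => Matrix.single_apply_of_ne _ _ _ _ _ fun h' => ?_, ?_⟩
    · obtain ⟨rfl, rfl⟩ := h'
      omega
    · by_cases h' : i = a ∧ i = b
      · obtain ⟨rfl, rfl⟩ := h'
        rw [Matrix.single_apply_same, Nat.sub_self]
        exact isHomogeneous_one _ _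
      · rw [Matrix.single_apply_of_ne _ _ _ _ _ h']
        exact isHomogeneous_zero _ _ _⟩

theorem sandwich (b a : Fin (n + 1)) (x : B) :
    ((idem k n b * x * idem k n a : B) : Matrix (Fin (n + 1)) (Fin (n + 1)) (MvPolynomial (Fin (n + 1)) k)) =
      Matrix.single b a (x.1 b a) := by
  change Matrix.single b b 1 * x.1 * Matrix.single a a 1 = _
  rw [Matrix.single_mul_mul_single, one_mul, mul_one]

theorem idem_mul (i : Fin (n + 1)) : idem k n i * idem k n i = idem k n i := Subtype.ext (by
  change Matrix.single i i 1 * Matrix.single i i 1 = Matrix.single i i 1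
  rw [Matrix.single_mul_single_same, one_mul])

theorem idem_sum : ∑ i, idem k n i = 1 := Subtype.ext (by
  rw [AddSubmonoidClass.coe_finset_sum]
  change ∑ i, Matrix.single i i (1 : MvPolynomial (Fin (n + 1)) k) = 1
  refine Matrix.ext fun a b => ?_
  rw [Matrix.sum_apply]
  by_cases h : a = b
  · subst h
    rw [Finset.sum_eq_single a (fun i _ hi => Matrix.single_apply_of_ne _ _ _ _ _ (fun h' => hi h'.1))
      (fun h' => absurd (Finset.mem_univ a) h'), Matrix.single_apply_same, Matrix.one_apply_eq]
  · rw [Matrix.one_apply_ne h]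
    exact Finset.sum_eq_zero fun i _ => Matrix.single_apply_of_ne _ _ _ _ _ fun h' => h (h'.1.symm.trans h'.2))

theorem idem_low (b a : Fin (n + 1)) (h : a < b) (x : B) : idem k n b * x * idem k n a = 0 := Subtype.ext (by
  rw [sandwich, (x.2 b a).1 h, Matrix.single_zero]
  rfl)

theorem idem_diag (a : Fin (n + 1)) (x : B) : ∃ r : k, idem k n a * x * idem k n a = r • idem k n a := by
  have h := (x.2 a a).2
  rw [Nat.sub_self] at h
  refine ⟨coeff 0 (x.1 a a), Subtype.ext ?_⟩
  rw [sandwich]
  change _ = coeff 0 (x.1 a a) • Matrix.single a a (1 : MvPolynomial (Fin (n + 1)) k)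
  rw [Matrix.smul_single]
  congr 1
  rw [MvPolynomial.smul_eq_C_mul, mul_one]
  exact totalDegree_eq_zero_iff_eq_C.1 (Nat.le_zero.1 h.totalDegree_le)

theorem finite_beilinson : Module.Finite k (DEquiv.beilinsonAlg k n) := by
  let f : (DEquiv.beilinsonAlg k n) →ₗ[k]
      (∀ i j : Fin (n + 1), restrictTotalDegree (Fin (n + 1)) k ((j : ℕ) - i)) :=
    { toFun := fun M i j => ⟨M.1 i j, (mem_restrictTotalDegree _ _ _).2 (M.2 i j).2.totalDegree_le⟩
      map_add' := fun _ _ => rfl
      map_smul' := fun _ _ => rfl }
  exact Module.Finite.of_injective f fun M N h => Subtype.ext (Matrix.ext fun i j =>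
    congrArg Subtype.val (congrFun (congrFun h i) j))

theorem finH_iff (K : DerivedCategory (ModuleCat.{u} B)) :
    FinH k K ↔ ((∀ i : ℤ, Module.Finite k (RestrictScalars k B ((DerivedCategory.homologyFunctor (ModuleCat.{u} B) i).obj K))) ∧
        Set.Finite {i : ℤ | Nontrivial ((DerivedCategory.homologyFunctor (ModuleCat.{u} B) i).obj K)}) :=
  Iff.rfl

theorem compact_iff (K : DerivedCategory (ModuleCat.{u} B)) :
    (∀ J : Type u, PreservesColimitsOfShape (Discrete J) (preadditiveCoyoneda.obj (op K))) ↔ FinH k K := by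
  haveI : HasCoproducts.{u} (DerivedCategory (ModuleCat.{u} B)) := hasCoproducts_DM
  haveI := finite_beilinson k n
  rw [← finSupp_iff_preserves]
  exact ⟨fun h => finH_of_finSupp K h,
    fun h => finSupp_of_finH (idem k n) (idem_mul k n) (idem_sum k n) (idem_low k n) (idem_diag k n) K h⟩

end Groth.L07.Beil
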